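import Mathlib

set_option autoImplicit false

/-! # S3696 : definitions for the mini-farm AbP -/

namespace Cfsg.Agent.Lib.Helper95.AbP

/-- the complement of the orbit of `w` -/
def co (A : Type*) {Ω : Type*} [Group A] [MulAction A Ω] (w : Ω) : SubMulAction A Ω where
  carrier := (MulAction.orbit A w)ᶜ
  smul_mem' := by
    rintro c x hx ⟨g, hg⟩
    apply hx
    refine ⟨c⁻¹ * g, ?_⟩
    have hg' : g • w = c • x := hg
    show (c⁻¹ * g) • w = x
    rw [mul_smul, hg', inv_smul_smul]

end Cfsg.Agent.Lib.Helper95.AbP
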