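import Cfsg.Agent.Lib.Helper95.AbP.Defs

set_option autoImplicit false

namespace Cfsg.Agent.Lib.Helper95.AbP

/-- [G1] -/
theorem G1 {p : ℕ} [Fact p.Prime] {A : Type*} [Group A] [Finite A] (hA : IsPGroup p A)
    (hc : ∀ a b : A, a * b = b * a) : ∃ k : ℕ, Nat.card {x : A // x ^ p = 1} = p ^ k := by
  let E : Subgroup A :=
    { carrier := {x | x ^ p = 1}
      mul_mem' := by
        intro a b ha hb
        have ha' : a ^ p = 1 := ha
        have hb' : b ^ p = 1 := hb
        show (a * b) ^ p = 1
        rw [(show Commute a b from hc a b).mul_pow, ha', hb', one_mul]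
      one_mem' := one_pow p
      inv_mem' := by
        intro a ha
        have ha' : a ^ p = 1 := ha
        show (a⁻¹) ^ p = 1
        rw [inv_pow, ha', inv_one] }
  exact (hA.to_subgroup E).exists_card_eq

end Cfsg.Agent.Lib.Helper95.AbP
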