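import Cfsg.Agent.Lib.Helper95.AbP.Defs

set_option autoImplicit false

namespace Cfsg.Agent.Lib.Helper95.AbP

/-- [G2] -/
theorem G2 {p : ℕ} {A : Type*} [Group A] [Finite A] (hc : ∀ a b : A, a * b = b * a) (B : Subgroup A) :
    Nat.card {x : A // x ^ p = 1} ≤ B.index * Nat.card {x : B // x ^ p = 1} := by
  classical
  let E : Subgroup A :=
    { carrier := {x | x ^ p = 1}
      mul_mem' := by
        intro a b ha hb
        have ha' : a ^ p = 1 := ha
        have hb' : b ^ p = 1 := hb
        show (a * b) ^ p = 1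
        rw [(show Commute a b from hc a b).mul_pow, ha', hb', one_mul]
      one_mem' := one_pow p
      inv_mem' := by
        intro a ha
        have ha' : a ^ p = 1 := ha
        show (a⁻¹) ^ p = 1
        rw [inv_pow, ha', inv_one] }
  have h1 : Nat.card {x : A // x ^ p = 1} = Nat.card E := rfl
  have h2 : Nat.card {x : B // x ^ p = 1} = Nat.card (E ⊓ B : Subgroup A) := by
    apply Nat.card_congr
    refine ⟨fun x => ⟨(x.1 : A), ⟨show (x.1 : A) ^ p = 1 by
        have := congrArg Subtype.val x.2; simpa using this, x.1.2⟩⟩,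
      fun y => ⟨⟨y.1, y.2.2⟩, Subtype.ext (show (y.1 : A) ^ p = 1 from y.2.1)⟩, ?_, ?_⟩
    · intro x; rfl
    · intro y; rfl
  rw [h1, h2]
  have h3 : Nat.card E = (B.relIndex E) * Nat.card (E ⊓ B : Subgroup A) := by
    have h4 := Subgroup.relIndex_mul_relIndex (⊥ : Subgroup A) (E ⊓ B) E bot_le inf_le_left
    rw [Subgroup.relIndex_bot_left, Subgroup.relIndex_bot_left, Subgroup.inf_relIndex_left] at h4
    rw [← h4, mul_comm]
  rw [h3]
  haveI : B.Normal := ⟨fun n hn g => by
    rw [hc g n, mul_assoc, mul_inv_cancel, mul_one]; exact hn⟩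
  exact Nat.mul_le_mul_right _ (Nat.le_of_dvd (Nat.pos_of_ne_zero Subgroup.index_ne_zero_of_finite)
    (Subgroup.relIndex_dvd_index_of_normal B E))

end Cfsg.Agent.Lib.Helper95.AbP
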