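import Cfsg.Agent.Lib.Helper95.AbP.Defs

set_option autoImplicit false

namespace Cfsg.Agent.Lib.Helper95.AbP

/-- [G3] -/
theorem G3 {p : ℕ} {A : Type*} [Group A] [Finite A] (B : Subgroup A) (x0 : A) (h0 : x0 ^ p = 1)
    (h1 : x0 ∉ B) : Nat.card {x : B // x ^ p = 1} < Nat.card {x : A // x ^ p = 1} := by
  classical
  have := Fintype.ofFinite {x : B // x ^ p = 1}
  have := Fintype.ofFinite {x : A // x ^ p = 1}
  rw [Nat.card_eq_fintype_card, Nat.card_eq_fintype_card]
  let f : {x : B // x ^ p = 1} → {x : A // x ^ p = 1} := fun b =>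
    ⟨(b.1 : A), by have := congrArg Subtype.val b.2; simpa using this⟩
  have hf : Function.Injective f := by
    intro a b hab
    apply Subtype.ext
    apply Subtype.ext
    exact congrArg (fun z : {x : A // x ^ p = 1} => (z.1 : A)) hab
  refine Fintype.card_lt_of_injective_of_notMem f hf (b := ⟨x0, h0⟩) ?_
  rintro ⟨b, hb⟩
  apply h1
  have : (b.1 : A) = x0 := congrArg Subtype.val hb
  rw [← this]
  exact b.1.2

end Cfsg.Agent.Lib.Helper95.AbP
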