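import Cfsg.Agent.Lib.Helper95.AbP.Defs

set_option autoImplicit false

namespace Cfsg.Agent.Lib.Helper95.AbP

/-- [L1] -/
theorem L1 (t d : ℕ) (hd : 1 ≤ d) (ht : 2 ^ d ≤ t) : t * d ^ d ≤ t ^ d := by
  obtain ⟨e, rfl⟩ : ∃ e, d = e + 1 := ⟨d - 1, by omega⟩
  have h1 : e + 1 ≤ 2 ^ e := Nat.lt_two_pow_self
  have h2 : (e + 1) ^ (e + 1) ≤ t ^ e := by
    calc (e + 1) ^ (e + 1) ≤ (2 ^ e) ^ (e + 1) := Nat.pow_le_pow_left h1 _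
      _ = (2 ^ (e + 1)) ^ e := by rw [← pow_mul, ← pow_mul, mul_comm]
      _ ≤ t ^ e := Nat.pow_le_pow_left ht _
  calc t * (e + 1) ^ (e + 1) ≤ t * t ^ e := Nat.mul_le_mul_left _ h2
    _ = t ^ (e + 1) := by rw [pow_succ, mul_comm]

end Cfsg.Agent.Lib.Helper95.AbP
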