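import Cfsg.Agent.Lib.Helper95.AbP.Defs

set_option autoImplicit false

namespace Cfsg.Agent.Lib.Helper95.AbP

/-- [L2] weighted AM-GM. -/
theorem L2 (a b d e : ℕ) :
    a ^ d * b ^ e * (d + e) ^ (d + e) ≤ (a + b) ^ (d + e) * (d ^ d * e ^ e) := by
  rcases Nat.eq_zero_or_pos d with rfl | hd
  · simp only [pow_zero, one_mul, zero_add]
    exact Nat.mul_le_mul_right _ (Nat.pow_le_pow_left (Nat.le_add_left b a) e)
  rcases Nat.eq_zero_or_pos e with rfl | he
  · simp only [pow_zero, mul_one, add_zero]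
    exact Nat.mul_le_mul_right _ (Nat.pow_le_pow_left (Nat.le_add_right a b) d)
  have hD : (0 : ℝ) < d := by exact_mod_cast hd
  have hE : (0 : ℝ) < e := by exact_mod_cast he
  have hN : (0 : ℝ) < (d : ℝ) + e := by positivity
  have ha : (0 : ℝ) ≤ (a : ℝ) / d := by positivity
  have hb : (0 : ℝ) ≤ (b : ℝ) / e := by positivity
  have h := Real.geom_mean_le_arith_mean2_weighted (w₁ := (d : ℝ) / (d + e)) (w₂ := (e : ℝ) / (d + e))
    (p₁ := (a : ℝ) / d) (p₂ := (b : ℝ) / e) (by positivity) (by positivity) ha hb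
    (by field_simp)
  have hr : (d : ℝ) / (d + e) * ((a : ℝ) / d) + (e : ℝ) / (d + e) * ((b : ℝ) / e) =
      ((a : ℝ) + b) / (d + e) := by
    field_simp
  rw [hr] at h
  have h2 := pow_le_pow_left₀ (by positivity) h (d + e)
  have e1 : (((a : ℝ) / d) ^ ((d : ℝ) / (d + e))) ^ (d + e) = ((a : ℝ) / d) ^ d := by
    rw [← Real.rpow_natCast, ← Real.rpow_mul ha, ← Real.rpow_natCast]
    congr 1
    push_cast
    field_simp
  have e2 : (((b : ℝ) / e) ^ ((e : ℝ) / (d + e))) ^ (d + e) = ((b : ℝ) / e) ^ e := by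
    rw [← Real.rpow_natCast, ← Real.rpow_mul hb, ← Real.rpow_natCast]
    congr 1
    push_cast
    field_simp
  rw [mul_pow, e1, e2, div_pow, div_pow, div_pow, div_mul_div_comm,
    div_le_div_iff₀ (by positivity) (by positivity)] at h2
  exact_mod_cast h2

end Cfsg.Agent.Lib.Helper95.AbP
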