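import Cfsg.Agent.Lib.Helper95.AbP.Defs

set_option autoImplicit false

namespace Cfsg.Agent.Lib.Helper95.AbP

/-- [S2] `Subgroup.index_stabilizer` / `MulAction.index_stabilizer`, card of a set + card of its complement. -/
theorem S2 {A Ω : Type*} [Group A] [Finite A] [MulAction A Ω] [Finite Ω] (w : Ω) :
    Nat.card (co A w) + (MulAction.stabilizer A w).index = Nat.card Ω := by
  rw [MulAction.index_stabilizer]
  have h1 : Nat.card (co A w) = Nat.card ((MulAction.orbit A w)ᶜ : Set Ω) := rfl
  rw [h1, add_comm]
  exact Set.ncard_add_ncard_compl (MulAction.orbit A w)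

end Cfsg.Agent.Lib.Helper95.AbP
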