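import Cfsg.Agent.Lib.Helper95.AbP.Defs

set_option autoImplicit false

namespace Cfsg.Agent.Lib.Helper95.AbP

/-- [S3] `b` fixes `w`, hence (commutativity) every `a • w`; it fixes the complement by hypothesis. -/
theorem S3 {A Ω : Type*} [Group A] [MulAction A Ω] (hc : ∀ a b : A, a * b = b * a)
    (hf : ∀ a : A, (∀ x : Ω, a • x = x) → a = 1) (w : Ω) :
    ∀ b : MulAction.stabilizer A w, (∀ x : co A w, b • x = x) → b = 1 := by
  intro b hb
  apply Subtype.ext
  apply hf
  intro x
  by_cases hx : x ∈ MulAction.orbit A w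
  · obtain ⟨a, rfl⟩ := hx
    show (b : A) • a • w = a • w
    rw [← mul_smul, hc, mul_smul]
    congr 1
    exact b.2
  · have h1 := hb ⟨x, hx⟩
    exact congrArg Subtype.val h1

end Cfsg.Agent.Lib.Helper95.AbP
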