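import Cfsg.Agent.Lib.Helper95.AbP.Defs

set_option autoImplicit false

namespace Cfsg.Agent.Lib.Helper95.AbP

/-- [S4] if `a ≠ 1` then some power `a' = a ^ j` has order `p`; `a'` fixes the complement,
fixes `w` by `h`, hence the orbit (commutativity): `a' = 1` by `hf`, contradiction. -/
theorem S4 {p : ℕ} [Fact p.Prime] {A Ω : Type*} [Group A] [Finite A] [MulAction A Ω] (hA : IsPGroup p A)
    (hc : ∀ a b : A, a * b = b * a) (hf : ∀ a : A, (∀ x : Ω, a • x = x) → a = 1) (w : Ω)
    (h : ∀ x : A, x ^ p = 1 → x • w = w) : ∀ a : A, (∀ x : co A w, a • x = x) → a = 1 := by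
  intro a ha
  by_contra hne
  obtain ⟨k, hk⟩ := hA a
  -- minimal k with a^(p^k) = 1
  classical
  have hex : ∃ k, a ^ p ^ k = 1 := ⟨k, hk⟩
  set m := Nat.find hex with hm
  have hm1 : a ^ p ^ m = 1 := Nat.find_spec hex
  have hm0 : m ≠ 0 := by
    intro h0
    rw [h0] at hm1
    simp at hm1
    exact hne hm1
  obtain ⟨n, hn⟩ := Nat.exists_eq_succ_of_ne_zero hm0
  have hn1 : a ^ p ^ n ≠ 1 := by
    have := Nat.find_min hex (m := n) (by omega)
    exact this
  apply hn1
  apply hf
  have hp1 : (a ^ p ^ n) ^ p = 1 := by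
    rw [← pow_mul, ← pow_succ, ← Nat.succ_eq_add_one, ← hn]
    exact hm1
  have hw : (a ^ p ^ n) • w = w := h _ hp1
  intro x
  by_cases hx : x ∈ MulAction.orbit A w
  · obtain ⟨g, rfl⟩ := hx
    show (a ^ p ^ n) • (g • w) = g • w
    rw [← mul_smul, hc, mul_smul, hw]
  · have hfix : a • x = x := by
      have := ha ⟨x, hx⟩
      exact congrArg Subtype.val this
    have : ∀ j : ℕ, a ^ j • x = x := by
      intro j
      induction j with
      | zero => simp
      | succ j ih => rw [pow_succ, mul_smul, hfix, ih]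
    exact this _

end Cfsg.Agent.Lib.Helper95.AbP
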