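import Cfsg.Agent.Lib.Helper95.AbP.L1
import Cfsg.Agent.Lib.Helper95.AbP.L2
import Cfsg.Agent.Lib.Helper95.AbP.G1
import Cfsg.Agent.Lib.Helper95.AbP.G2
import Cfsg.Agent.Lib.Helper95.AbP.G3
import Cfsg.Agent.Lib.Helper95.AbP.S2
import Cfsg.Agent.Lib.Helper95.AbP.S3
import Cfsg.Agent.Lib.Helper95.AbP.S4

set_option autoImplicit false

/-! # S3696 : the induction -/

namespace Cfsg.Agent.Lib.Helper95.AbP

theorem L3 (t b d e M : ℕ) (hd : 1 ≤ d) (ht : 2 ^ d ≤ t) (hM : M * e ^ e ≤ b ^ e) :
    t * M * (d + e) ^ (d + e) ≤ (t + b) ^ (d + e) := by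
  have h1 := L1 t d hd ht
  have h2 := L2 t b d e
  have hpos : 0 < d ^ d * e ^ e := by
    rcases e.eq_zero_or_pos with rfl | he
    · have : 0 < d ^ d := pow_pos (by omega) d
      simpa using this
    · have h3 : 0 < d ^ d := pow_pos (by omega) d
      have h4 : 0 < e ^ e := pow_pos he e
      exact Nat.mul_pos h3 h4
  have key : t * M * (d + e) ^ (d + e) * (d ^ d * e ^ e) ≤ (t + b) ^ (d + e) * (d ^ d * e ^ e) := by
    calc t * M * (d + e) ^ (d + e) * (d ^ d * e ^ e)
        = (t * d ^ d) * (M * e ^ e) * (d + e) ^ (d + e) := by ring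
      _ ≤ t ^ d * b ^ e * (d + e) ^ (d + e) := by gcongr
      _ ≤ _ := h2
  exact Nat.le_of_mul_le_mul_right key hpos

theorem triv_case {p : ℕ} [Fact p.Prime] {A : Type*} [Group A] [Finite A] {Ω : Type*} [MulAction A Ω]
    (hf : ∀ a : A, (∀ x : Ω, a • x = x) → a = 1) (hfix : ∀ (a : A) (x : Ω), a • x = x) (k : ℕ)
    (hk : Nat.card {x : A // x ^ p = 1} = p ^ k) : Nat.card A * k ^ k ≤ Nat.card Ω ^ k := by
  have hsub : Subsingleton A := ⟨fun a b => by rw [hf a (hfix a), hf b (hfix b)]⟩
  have h1 : Nat.card A = 1 := Nat.card_of_subsingleton 1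
  have h2 : Nat.card {x : A // x ^ p = 1} = 1 := Nat.card_of_subsingleton ⟨1, one_pow p⟩
  have hk0 : k = 0 := by
    rw [h2] at hk
    by_contra h
    have : 1 < p ^ k := Nat.one_lt_pow h (Fact.out : p.Prime).one_lt
    omega
  subst hk0
  simp [h1]

universe u v

theorem main {p : ℕ} [Fact p.Prime] : ∀ (N : ℕ) (A : Type u) [Group A] [Finite A] (Ω : Type v)
    [MulAction A Ω] [Finite Ω],
    Nat.card Ω ≤ N → IsPGroup p A → (∀ a b : A, a * b = b * a) →
    (∀ a : A, (∀ x : Ω, a • x = x) → a = 1) →
    ∀ k : ℕ, Nat.card {x : A // x ^ p = 1} = p ^ k → Nat.card A * k ^ k ≤ Nat.card Ω ^ k := by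
  intro N
  induction N with
  | zero =>
    intro A _ _ Ω _ _ hN hA hc hf k hk
    have hΩ : IsEmpty Ω := by
      have h0 : Nat.card Ω = 0 := by omega
      rcases Nat.card_eq_zero.1 h0 with h | h
      · exact h
      · exact (h.not_finite inferInstance).elim
    exact triv_case hf (fun a x => (hΩ.false x).elim) k hk
  | succ N ih =>
    intro A _ _ Ω _ _ hN hA hc hf k hk
    by_cases hfix : ∀ (a : A) (x : Ω), a • x = x
    · exact triv_case hf hfix k hk
    · push Not at hfix
      obtain ⟨a0, w, haw⟩ := hfix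
      have hS2 := S2 (A := A) w
      have hidx : 0 < (MulAction.stabilizer A w).index :=
        Nat.pos_of_ne_zero Subgroup.index_ne_zero_of_finite
      have hlt : Nat.card (co A w) ≤ N := by omega
      by_cases hcase : ∀ x : A, x ^ p = 1 → x • w = w
      · have hf' := S4 hA hc hf w hcase
        have h5 := ih A (co A w) hlt hA hc hf' k hk
        calc _ ≤ Nat.card (co A w) ^ k := h5
          _ ≤ Nat.card Ω ^ k := Nat.pow_le_pow_left (by omega) k
      · push Not at hcase
        obtain ⟨x0, hx0, hx0w⟩ := hcase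
        have hx0B : x0 ∉ MulAction.stabilizer A w := fun h => hx0w (MulAction.mem_stabilizer_iff.1 h)
        have hBp : IsPGroup p (MulAction.stabilizer A w) := hA.to_subgroup _
        have hcB : ∀ a b : MulAction.stabilizer A w, a * b = b * a :=
          fun a b => Subtype.ext (hc a b)
        obtain ⟨e, he⟩ := G1 hBp hcB
        have hfB := S3 hc hf w
        have ihB := ih (MulAction.stabilizer A w) (co A w) hlt hBp hcB hfB e he
        have h3 := G3 (p := p) (MulAction.stabilizer A w) x0 hx0 hx0B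
        rw [he, hk] at h3
        have hek : e < k := (Nat.pow_lt_pow_iff_right (Fact.out : p.Prime).one_lt).1 h3
        have h2 := G2 (p := p) hc (MulAction.stabilizer A w)
        rw [he, hk] at h2
        obtain ⟨d, rfl⟩ : ∃ d, k = d + e := ⟨k - e, by omega⟩
        have hd : 1 ≤ d := by omega
        have ht : 2 ^ d ≤ (MulAction.stabilizer A w).index := by
          rw [pow_add] at h2
          have h4 : p ^ d ≤ (MulAction.stabilizer A w).index :=
            Nat.le_of_mul_le_mul_right h2 (pow_pos (Fact.out : p.Prime).pos e)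
          exact le_trans (Nat.pow_le_pow_left (Fact.out : p.Prime).two_le d) h4
        have hcard : Nat.card A = (MulAction.stabilizer A w).index *
            Nat.card (MulAction.stabilizer A w) := (Subgroup.index_mul_card _).symm
        have h6 := L3 (MulAction.stabilizer A w).index (Nat.card (co A w)) d e
          (Nat.card (MulAction.stabilizer A w)) hd ht ihB
        rw [hcard, ← hS2, add_comm (Nat.card _)]
        exact h6

end Cfsg.Agent.Lib.Helper95.AbP
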